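import Cfsg.Agent.Lib.LieTwisted.SuzukiStructure
import Mathlib.RingTheory.LittleWedderburn

/-!
Sylow subgroups of odd order of the Suzuki groups: for a prime dividing `q² + 1` an element of that
order is irreducible on `F⁴`, so its centraliser is cyclic.
-/

set_option autoImplicit false

namespace Cfsg.Agent.Lib.SzMultiplier.Odd

open Cfsg.Agent.Lib.LieTwisted.Suzuki

variable {F : Type*} [Field F] [Fintype F]

/-- `q` has order four modulo a prime divisor of `q² + 1`. -/
theorem pow_ne_one_mod {q r k : ℕ} (hr : r.Prime) (hr2 : r ≠ 2) (hd : r ∣ q ^ 2 + 1) (hk : 1 ≤ k)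
    (hk3 : k ≤ 3) : ¬ q ^ k ≡ 1 [MOD r] := by
  haveI : Fact r.Prime := ⟨hr⟩
  intro h
  have h1 : (q : ZMod r) ^ k = 1 := by
    have := (ZMod.natCast_eq_natCast_iff _ _ r).2 h
    simpa using this
  have h2 : (q : ZMod r) ^ 2 + 1 = 0 := by
    have := (ZMod.natCast_eq_zero_iff _ r).2 hd
    simpa using this
  have h3 : (2 : ZMod r) ≠ 0 := by
    intro e
    have : ((2 : ℕ) : ZMod r) = 0 := by exact_mod_cast e
    exact hr2 ((Nat.prime_dvd_prime_iff_eq hr Nat.prime_two).1 ((ZMod.natCast_eq_zero_iff _ r).1 this))
  apply h3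
  interval_cases k
  · linear_combination h2 - ((q : ZMod r) + 1) * h1
  · linear_combination h2 - h1
  · have hq : (q : ZMod r) = -1 := by linear_combination (q : ZMod r) * h2 - h1
    rw [hq] at h2
    linear_combination h2

variable {V : Type*} [AddCommGroup V] [Module F V] [FiniteDimensional F V]

/-- An element of order `r` is trivial on invariant subspaces of dimension at most three. -/
theorem trivial_on_small {r : ℕ} (hr : r.Prime) (hr2 : r ≠ 2)
    (hd : r ∣ Fintype.card F ^ 2 + 1) (g : Module.End F V) (hg : g ^ r = 1) (W : Submodule F V)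
    (hW : ∀ x ∈ W, g x ∈ W) (hdim : Module.finrank F W ≤ 3) : ∀ x ∈ W, g x = x := by
  classical
  haveI : Fact r.Prime := ⟨hr⟩
  haveI : Finite W := Module.finite_of_finite F
  letI := Fintype.ofFinite W
  let f : Function.End W := fun x => ⟨g x.1, hW _ x.2⟩
  have hf : f ^ r ^ 1 = 1 := by
    have hkey : ∀ (n : ℕ) (x : W), (((f ^ n : Function.End W) x : W) : V) = (g ^ n) x.1 := by
      intro n
      induction n with
      | zero => intro x; rfl
      | succ n ih =>
        intro x
        rw [pow_succ, pow_succ]
        exact ih (f x)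
    funext x
    apply Subtype.ext
    rw [pow_one, hkey, hg]
    rfl
  have hmod := Equiv.Perm.card_fixedPoints_modEq (p := r) (n := 1) hf
  let W₀ : Submodule F V := W ⊓ LinearMap.ker (g - 1)
  haveI : Finite W₀ := Module.finite_of_finite F
  letI := Fintype.ofFinite W₀
  have hfix : Fintype.card f.fixedPoints = Fintype.card W₀ := by
    refine Fintype.card_congr
      { toFun := fun x => ⟨x.1.1, x.1.2, ?_⟩
        invFun := fun x => ⟨⟨x.1, x.2.1⟩, ?_⟩
        left_inv := fun x => rfl
        right_inv := fun x => rfl }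
    · show (g - 1) x.1.1 = 0
      have := congrArg Subtype.val x.2
      simpa [f, sub_eq_zero] using this
    · show f _ = _
      apply Subtype.ext
      have := x.2.2
      simpa [f, sub_eq_zero] using this
  rw [hfix, Module.card_eq_pow_finrank (K := F) (V := W), Module.card_eq_pow_finrank (K := F) (V := W₀)] at hmod
  have hle : Module.finrank F W₀ ≤ Module.finrank F W := Submodule.finrank_mono inf_le_left
  have heq : W₀ = W := by
    refine Submodule.eq_of_le_of_finrank_eq inf_le_left (le_antisymm hle ?_)
    by_contra hlt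
    push Not at hlt
    obtain ⟨k, hk⟩ := Nat.exists_eq_add_of_le hle
    rw [hk, pow_add] at hmod
    refine pow_ne_one_mod hr hr2 hd (k := k) (by omega) (by omega) ?_
    refine Nat.ModEq.cancel_left_of_coprime (c := Fintype.card F ^ Module.finrank F W₀) ?_
      (by simpa using hmod)
    refine (Nat.Coprime.pow_right _ ?_)
    refine (hr.coprime_iff_not_dvd.2 fun hq => ?_)
    have h1 := (Nat.dvd_add_right (dvd_pow hq two_ne_zero)).1 hd
    exact hr.ne_one (Nat.dvd_one.1 h1)
  intro x hx
  have := (heq.symm ▸ hx : x ∈ W₀).2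
  exact sub_eq_zero.1 (by simpa using this)

/-- An element of order `r ∣ q² + 1` is irreducible in dimension four. -/
theorem irreducible [CharP F 2] (hV : Module.finrank F V = 4) {r : ℕ} (hr : r.Prime) (hr2 : r ≠ 2)
    (hd : r ∣ Fintype.card F ^ 2 + 1) (g : Module.End F V) (hg : g ^ r = 1) (hg1 : g ≠ 1)
    (W : Submodule F V) (hW : ∀ x ∈ W, g x ∈ W) : W = ⊥ ∨ W = ⊤ := by
  by_contra hcon
  push Not at hcon
  have hlt : Module.finrank F W < 4 := hV ▸ Submodule.finrank_lt hcon.2
  have htriv := trivial_on_small hr hr2 hd g hg W hW (by omega)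
  let U := LinearMap.range (g - 1)
  have hWker : W ≤ LinearMap.ker (g - 1) := fun x hx => by simp [htriv x hx]
  have hUdim : Module.finrank F U ≤ 3 := by
    have h1 := LinearMap.finrank_range_add_finrank_ker (g - 1)
    have h2 := Submodule.finrank_mono hWker
    have h3 : Module.finrank F W ≠ 0 := fun e => hcon.1 (Submodule.finrank_eq_zero.1 e)
    show Module.finrank F (LinearMap.range (g - 1)) ≤ 3
    omega
  have hUinv : ∀ x ∈ U, g x ∈ U := by
    rintro _ ⟨x, rfl⟩
    exact ⟨g x, by simp⟩
  have hU := trivial_on_small hr hr2 hd g hg U hUinv hUdim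
  have hsq : g ^ 2 = 1 := by
    refine LinearMap.ext fun x => ?_
    have := hU ((g - 1) x) ⟨x, rfl⟩
    simp only [LinearMap.sub_apply, Module.End.one_apply, map_sub] at this
    have two : (2 : F) = 0 := CharP.cast_eq_zero F 2
    rw [pow_two, Module.End.mul_apply, Module.End.one_apply]
    have h2 : g x + g x = 0 := by rw [← two_smul F (g x), two, zero_smul]
    have h2' : x + x = 0 := by rw [← two_smul F x, two, zero_smul]
    calc g (g x) = (g (g x) - g x) + g x := by abel
      _ = (g x - x) + g x := by rw [this]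
      _ = (g x + g x) - x := by abel
      _ = x := by rw [h2, zero_sub, neg_eq_iff_add_eq_zero, h2']
  apply hg1
  obtain ⟨k, hk⟩ := hr.odd_of_ne_two hr2
  rw [hk, pow_succ, pow_mul, hsq, one_pow, one_mul] at hg
  exact hg

/-- A group of linear maps centralising an irreducible element is cyclic. -/
theorem isCyclic_of_commute [CharP F 2] (hV : Module.finrank F V = 4) {r : ℕ} (hr : r.Prime)
    (hr2 : r ≠ 2) (hd : r ∣ Fintype.card F ^ 2 + 1) {R : Type*} [Group R] [Finite R]
    (ρ : R →* Module.End F V) (hρ : Function.Injective ρ) (z : R) (hz : orderOf z = r)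
    (hcz : ∀ x, Commute x z) : IsCyclic R := by
  classical
  haveI : Finite V := Module.finite_of_finite F
  have hg : ρ z ^ r = 1 := by rw [← map_pow, ← hz, pow_orderOf_eq_one, map_one]
  have hg1 : ρ z ≠ 1 := fun e => by
    have : z = 1 := hρ (e.trans (map_one ρ).symm)
    rw [this, orderOf_one] at hz
    exact hr.ne_one hz.symm
  let D : Subring (Module.End F V) := Subring.centralizer {ρ z}
  haveI : Finite (Module.End F V) := Finite.of_injective (fun f => (f : V → V)) DFunLike.coe_injective
  haveI : Nontrivial D := ⟨⟨0, 1, fun e => by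
    have h0 : (0 : Module.End F V) = 1 := congrArg Subtype.val e
    haveI : Nontrivial V := Module.nontrivial_of_finrank_eq_succ hV
    exact zero_ne_one h0⟩⟩
  haveI : NoZeroDivisors D := by
    refine ⟨fun {a b} hab => ?_⟩
    by_contra hne
    push Not at hne
    obtain ⟨ha, hb⟩ := hne
    have hac : ρ z * a.1 = a.1 * ρ z := Subring.mem_centralizer_iff.1 a.2 _ rfl
    have hK := irreducible hV hr hr2 hd (ρ z) hg hg1 (LinearMap.ker a.1) fun x hx => by
      rw [LinearMap.mem_ker] at hx ⊢
      rw [← Module.End.mul_apply, ← hac, Module.End.mul_apply, hx, map_zero]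
    rcases hK with hK | hK
    · apply hb
      refine Subtype.ext (LinearMap.ext fun x => LinearMap.ker_eq_bot.1 hK ?_)
      show a.1 (b.1 x) = a.1 0
      rw [map_zero, ← Module.End.mul_apply, ← Subring.coe_mul, hab]
      rfl
    · exact ha (Subtype.ext (LinearMap.ker_eq_top.1 hK))
  haveI : IsDomain D := NoZeroDivisors.to_isDomain _
  have hfield : IsField D := Finite.isDomain_to_isField D
  letI : CommRing D := { (inferInstance : Ring D) with mul_comm := hfield.mul_comm }
  haveI : IsDomain D := hfield.isDomain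
  let f : R →* D :=
    { toFun := fun x => ⟨ρ x, Subring.mem_centralizer_iff.2 fun y hy => by
        rw [Set.mem_singleton_iff.1 hy]
        exact ((hcz x).symm.map ρ).eq⟩
      map_one' := Subtype.ext (map_one ρ)
      map_mul' := fun x y => Subtype.ext (map_mul ρ x y) }
  exact isCyclic_of_injective_ringHom f fun x y e => hρ (congrArg Subtype.val e)

variable {m : ℕ} (h : IsSzField F m)

/-- The natural representation of the Suzuki group. -/
def natRep : Cfsg.Sz F m →* Module.End F (Fin 4 → F) where
  toFun g := (mat g).mulVecLin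
  map_one' := by rw [mat_one]; exact Matrix.mulVecLin_one
  map_mul' a b := by rw [mat_mul]; exact Matrix.mulVecLin_mul _ _

theorem natRep_injective : Function.Injective (natRep (F := F) (m := m)) := fun a b e => by
  refine mat_injective ?_
  exact Matrix.ext_iff_mulVec.2 fun v => congrArg (fun f : Module.End F (Fin 4 → F) => f v) e

include h

/-- Sylow `r`-subgroups are cyclic for `r ∣ q² + 1`. -/
theorem sylow_cyclic {r : ℕ} [Fact r.Prime] (hr2 : r ≠ 2) (hd : r ∣ Fintype.card F ^ 2 + 1)
    (S : Sylow r (Cfsg.Sz F m)) : IsCyclic S := by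
  haveI : CharP F 2 := h.charTwo
  rcases subsingleton_or_nontrivial (S : Subgroup (Cfsg.Sz F m)) with hs | hs
  · infer_instance
  · haveI : Nontrivial (Subgroup.center (S : Subgroup (Cfsg.Sz F m))) := S.isPGroup'.center_nontrivial
    obtain ⟨k, hk0, hcard⟩ :=
      (S.isPGroup'.to_subgroup (Subgroup.center (S : Subgroup (Cfsg.Sz F m)))).nontrivial_iff_card.1 ‹_›
    obtain ⟨z, hz⟩ := exists_prime_orderOf_dvd_card'
      (G := Subgroup.center (S : Subgroup (Cfsg.Sz F m))) r (by rw [hcard]; exact dvd_pow_self r (by omega))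
    exact isCyclic_of_commute (by simp) Fact.out hr2 hd
      (natRep.comp (S : Subgroup (Cfsg.Sz F m)).subtype)
      (natRep_injective.comp (Subgroup.subtype_injective _)) z.1
      ((Subgroup.orderOf_coe z).trans hz) (fun x => Subgroup.mem_center_iff.1 z.2 x)

end Cfsg.Agent.Lib.SzMultiplier.Odd
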