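import Cfsg.Agent.Lib.LieTwisted.SuzukiStructure
import Cfsg.Agent.Lib.Schur.Fusion

/-!
The 2-part of the Schur multiplier of `Sz(q)`, `q ≥ 32`: in a central extension every torus-invariant
biadditive pairing of the layers of the root group vanishes, so the derived group of the preimage of
the root group meets the kernel trivially.
-/

set_option autoImplicit false
set_option linter.unusedSectionVars false

namespace Cfsg.Agent.Lib.SzMultiplier.Two

universe u

open Cfsg.Agent.Lib.LieTwisted.Suzuki Cfsg.Agent.Lib.Schur.Fusion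
open scoped commutatorElement Polynomial

variable {F : Type u} [Field F] [Fintype F] {m : ℕ} (h : IsSzField F m)

/-- `κ(a, a') = a^θ a' + a'^θ a`. -/
def kap (m : ℕ) (a a' : F) : F := sg m a * a' + sg m a' * a

include h

theorem kap_add (a b c : F) : kap m a (b + c) = kap m a b + kap m a c := by
  rw [kap, kap, kap, h.sg_add]; ring

omit h in
theorem kap_scale (l a a' : F) : kap m (l * a) (l * a') = sg m l * l * kap m a a' := by
  rw [kap, kap, sg_mul, sg_mul]; ring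

/-- An element whose three norms do not add up. -/
theorem exists_nonadditive (hm : 2 ≤ m) :
    ∃ x : F, x ≠ 0 ∧ x + 1 ≠ 0 ∧
      (sg m x * x)⁻¹ + 1 + (sg m (x + 1) * (x + 1))⁻¹ ≠ 0 ∧ x⁻¹ + 1 + (x + 1)⁻¹ ≠ 0 := by
  classical
  haveI : CharP F 2 := h.charTwo
  set r := 2 ^ (m + 1) with hr
  let T : F[X] := Polynomial.X
  let P : F[X] := T * (T + 1) *
    (T ^ (2 * r + 2) + (T ^ (r + 2) + T ^ (2 * r + 1) + T ^ (r + 1) + T ^ r + T + 1)) * (T ^ 2 + T + 1)
  have hr8 : 8 ≤ r := by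
    rw [hr]
    calc 8 = 2 ^ 3 := by norm_num
      _ ≤ 2 ^ (m + 1) := Nat.pow_le_pow_right two_pos (by omega)
  have hlow : (T ^ (r + 2) + T ^ (2 * r + 1) + T ^ (r + 1) + T ^ r + T + 1 : F[X]).natDegree ≤ 2 * r + 1 := by
    simp only [T]
    refine (Polynomial.natDegree_add_le _ _).trans (max_le ?_ (by simp))
    repeat' refine (Polynomial.natDegree_add_le _ _).trans (max_le ?_ ?_)
    all_goals first
      | exact (Polynomial.natDegree_X_pow_le _).trans (by omega)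
      | exact Polynomial.natDegree_X_le.trans (by omega)
  have hK : (T ^ (2 * r + 2) + (T ^ (r + 2) + T ^ (2 * r + 1) + T ^ (r + 1) + T ^ r + T + 1) : F[X]).Monic :=
    Polynomial.monic_X_pow_add (lt_of_le_of_lt Polynomial.degree_le_natDegree
      (by exact_mod_cast Nat.lt_succ_of_le hlow))
  have q1 : (T + 1 : F[X]).Monic := by simp only [T]; monicity!
  have q2 : (T ^ 2 + T + 1 : F[X]).Monic := by simp only [T]; monicity!
  have hP : P.Monic := ((Polynomial.monic_X.mul q1).mul hK).mul q2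
  have hdeg : P.natDegree ≤ 2 * r + 6 := by
    refine Polynomial.natDegree_mul_le.trans ?_
    have e1 : (T * (T + 1) *
        (T ^ (2 * r + 2) + (T ^ (r + 2) + T ^ (2 * r + 1) + T ^ (r + 1) + T ^ r + T + 1)) : F[X]).natDegree ≤
        2 * r + 4 := by
      refine Polynomial.natDegree_mul_le.trans ?_
      have a1 : (T * (T + 1) : F[X]).natDegree ≤ 2 := by simp only [T]; compute_degree
      have a2 : (T ^ (2 * r + 2) + (T ^ (r + 2) + T ^ (2 * r + 1) + T ^ (r + 1) + T ^ r + T + 1) : F[X]).natDegree ≤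
          2 * r + 2 := by
        refine Polynomial.natDegree_add_le_of_degree_le ?_ (hlow.trans (by omega))
        exact Polynomial.natDegree_X_pow_le _
      omega
    have e2 : (T ^ 2 + T + 1 : F[X]).natDegree ≤ 2 := by simp only [T]; compute_degree
    omega
  obtain ⟨x, hx⟩ : ∃ x, P.eval x ≠ 0 := by
    by_contra hall
    push Not at hall
    have hle : Fintype.card F ≤ P.natDegree := by
      rw [← Finset.card_univ]
      exact Polynomial.card_le_degree_of_subset_roots fun x _ =>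
        (Polynomial.mem_roots hP.ne_zero).2 (hall x)
    rw [h.card] at hle
    have : r * r = 2 ^ (2 * m + 1) * 2 := by rw [hr, ← pow_add, ← pow_succ]; congr 1; omega
    nlinarith
  simp [P, T] at hx
  obtain ⟨⟨⟨hx0, hx1⟩, hx2⟩, hx3⟩ := hx
  have two := h.two0
  refine ⟨x, hx0, hx1, ?_, ?_⟩
  · intro e
    apply hx2
    have hs : sg m x = x ^ r := rfl
    have hs1 : sg m (x + 1) = x ^ r + 1 := by rw [h.sg_add, sg_one, hs]
    rw [hs, hs1] at e
    have hne1 : x ^ r + 1 ≠ 0 := by rw [← hs1]; exact mt sg_eq_zero.1 hx1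
    have hxr : x ^ r ≠ 0 := pow_ne_zero _ hx0
    field_simp at e
    simp only [pow_add, two_mul, pow_one, pow_two] at e ⊢
    linear_combination e + (- (x ^ r * x)) * two
  · intro e
    apply hx3
    field_simp at e
    linear_combination e - x * two

/-- The root group kills the 2-part. -/
theorem killsPart_unip (hm : 2 ≤ m) : KillsPart 2 (unip h) := by
  classical
  have hm1 : 1 ≤ m := by omega
  intro Γ _ _ σ hσ z hz _ hzc
  have hk := hσ.2.1
  have hcent : ∀ w : Γ, σ w = 1 → ∀ g : Γ, g * w = w * g := fun w hw g =>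
    Subgroup.mem_center_iff.1 (hk hw) g
  choose L hL using fun p : F × F => hσ.1 (uS h p.1 p.2)
  choose N hN using fun e : Fˣ => hσ.1 (dS h e)
  obtain ⟨x, hx0, hx1, hxμ, hxl⟩ := exists_nonadditive h hm
  -- scalars realised by the torus
  have hlam : ∀ l : F, l ≠ 0 → ∃ n : Γ, (∃ e : Fˣ, σ n = dS h e) ∧ ∀ a b : F, ∀ y : Γ,
      σ y = uS h a b → σ (n * y * n⁻¹) = uS h (l * a) (sg m l * l * b) := by
    intro l hl
    obtain ⟨e, he⟩ := h.sg_surjective l
    have he0 : e ≠ 0 := fun e0 => hl (by rw [← he, e0, sg_zero])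
    refine ⟨N (Units.mk0 e he0), ⟨_, hN _⟩, fun a b y hy => ?_⟩
    rw [map_mul, map_mul, map_inv, hN, hy, h.dS_mul_uS, mul_inv_cancel_right, Units.val_mk0]
    congr 1
    · rw [he]
    · rw [← he, h.sg_sg]; ring
  have hmu : ∀ μ : F, ∃ l : F, sg m l * l = μ := h.sg_mul_self_surj
  -- bimultiplicativity of commutators
  let P := (unip h).comap σ
  let Z := (unipCenter h).comap σ
  have hcomP : ∀ x ∈ P, ∀ y ∈ P, ⁅x, y⁆ ∈ Z := by
    intro x hx y hy
    show σ ⁅x, y⁆ ∈ unipCenter h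
    rw [map_commutatorElement]
    exact h.commutator_unip_le (Subgroup.commutator_mem_commutator hx hy)
  have hcomC : ∀ a b b' : F, Commute (σ (L (0, b))) (σ (L (a, b'))) := fun a b b' => by
    rw [hL, hL]; exact h.uS_center_comm b a b'
  -- the pairing of the centre with the root group
  let β : F → F → Γ := fun b a => ⁅L (0, b), L (a, 0)⁆
  have β_addr : ∀ b a a', β b (a + a') = β b a * β b a' := by
    intro b a a'
    show ⁅L (0, b), L (a + a', 0)⁆ = _
    have e1 : σ (L (a + a', 0)) = σ (L (a, 0) * L (a', 0) * L (0, sg m a * a')) := by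
      rw [map_mul, map_mul, hL, hL, hL, hL, h.uS_mul, h.uS_mul]
      congr 1
      · ring
      · rw [h.sg_add]
        linear_combination -(sg m a * a') * h.two0
    rw [commutator_congr hk rfl e1, commutator_mul_right hk (hcomC 0 b _), commutator_mul_right hk (hcomC a' b 0)]
    have h0 : ∀ d : F, ⁅L (0, b), L (0, d)⁆ = 1 := by
      intro d
      -- the pairing on the centre is invariant and biadditive
      let γ : F → F → Γ := fun b d => ⁅L (0, b), L (0, d)⁆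
      have γr : ∀ b d d', γ b (d + d') = γ b d * γ b d' := fun b d d' => by
        show ⁅L (0, b), L (0, d + d')⁆ = _
        rw [commutator_congr hk rfl (show σ (L (0, d + d')) = σ (L (0, d) * L (0, d')) by
          rw [map_mul, hL, hL, hL, h.uS_mul, sg_zero, zero_mul, add_zero, add_zero]),
          commutator_mul_right hk (hcomC 0 b d')]
      have γs : ∀ b d, γ b d = (γ d b)⁻¹ := fun b d => (commutatorElement_inv (L (0, d)) (L (0, b))).symm
      have γinv : ∀ l : F, l ≠ 0 → ∀ b d, γ (sg m l * l * b) d = γ b ((sg m l * l)⁻¹ * d) := by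
        intro l hl b d
        obtain ⟨n, -, hn⟩ := hlam l hl
        have key : ∀ p q, γ (sg m l * l * p) (sg m l * l * q) = γ p q := fun p q =>
          commutator_conj hk (n := n) (hcomC 0 p q)
            (by rw [hL, ← map_inv, ← map_mul, ← map_mul, hn 0 p _ (hL _), mul_zero])
            (by rw [hL, ← map_inv, ← map_mul, ← map_mul, hn 0 q _ (hL _), mul_zero])
        rw [← key b ((sg m l * l)⁻¹ * d),
          mul_inv_cancel_left₀ (mul_ne_zero (mt sg_eq_zero.1 hl) hl)]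
      obtain ⟨l, hl⟩ := hmu x
      obtain ⟨l', hl'⟩ := hmu (x + 1)
      have hl0 : l ≠ 0 := fun e => hx0 (by rw [← hl, e, mul_zero])
      have hl0' : l' ≠ 0 := fun e => hx1 (by rw [← hl', e, mul_zero])
      have γl : ∀ b b' d, γ (b + b') d = γ b d * γ b' d := fun b b' d => by
        rw [γs, γr, γs b, γs b', ← mul_inv_rev]
        congr 1
        exact Subgroup.mem_center_iff.1 (central_of_commute hk (hcomC 0 d b')) _
      have hz0 : ∀ d, γ (0 : F) d = 1 := fun d => by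
        have := γl 0 0 d
        rw [add_zero] at this
        exact left_eq_mul.1 this
      have key : γ b ((x⁻¹ + 1 + (x + 1)⁻¹) * ((x⁻¹ + 1 + (x + 1)⁻¹)⁻¹ * d)) = 1 := by
        generalize (x⁻¹ + 1 + (x + 1)⁻¹)⁻¹ * d = d'
        rw [add_mul, add_mul, one_mul, γr, γr, ← hl', ← hl, ← γinv l' hl0', ← γinv l hl0,
          ← γl, ← γl, hl, hl', show x * b + b + (x + 1) * b = 0 by
            linear_combination ((x + 1) * b) * h.two0, hz0]
      rwa [mul_inv_cancel_left₀ hxl] at key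
    rw [h0, mul_one]
  have β_inv : ∀ l : F, l ≠ 0 → ∀ b a, β (sg m l * l * b) a = β b (l⁻¹ * a) := by
    intro l hl b a
    obtain ⟨n, -, hn⟩ := hlam l hl
    have key : ∀ p q, β (sg m l * l * p) (l * q) = β p q := fun p q =>
      commutator_conj hk (n := n) (hcomC q p 0)
        (by rw [hL, ← map_inv, ← map_mul, ← map_mul, hn 0 p _ (hL _), mul_zero])
        (by rw [hL, ← map_inv, ← map_mul, ← map_mul, hn q 0 _ (hL _), mul_zero])
    rw [← key b (l⁻¹ * a), mul_inv_cancel_left₀ hl]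
  have β_addl : ∀ b b' a, β (b + b') a = β b a * β b' a := by
    intro b b' a
    have s : ∀ c, β c a = (⁅L (a, 0), L (0, c)⁆)⁻¹ := fun c =>
      (commutatorElement_inv (L (a, 0)) (L (0, c))).symm
    rw [s, s b, s b', commutator_congr hk rfl
      (show σ (L (0, b + b')) = σ (L (0, b) * L (0, b')) by
        rw [map_mul, hL, hL, hL, h.uS_mul, sg_zero, zero_mul, add_zero, add_zero]),
      commutator_mul_right hk (hcomC a b' 0).symm, ← mul_inv_rev]
    congr 1
    exact Subgroup.mem_center_iff.1 (central_of_commute hk (hcomC a b' 0).symm) _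
  have β_triv : ∀ b a, β b a = 1 := by
    intro b a
    have hz0 : ∀ c, β c 0 = 1 := fun c => by
      have := β_addr c 0 0
      rw [add_zero] at this
      exact left_eq_mul.1 this
    have hx0' : x⁻¹ ≠ 0 := inv_ne_zero hx0
    have hx1' : (x + 1)⁻¹ ≠ 0 := inv_ne_zero hx1
    set μ₁ := sg m x⁻¹ * x⁻¹ with hμ₁
    set μ₃ := sg m (x + 1)⁻¹ * (x + 1)⁻¹ with hμ₃
    have hν : μ₁ + 1 + μ₃ ≠ 0 := by
      rwa [hμ₁, hμ₃, sg_inv, sg_inv, ← mul_inv, ← mul_inv]
    have key : β ((μ₁ + 1 + μ₃) * ((μ₁ + 1 + μ₃)⁻¹ * b)) a = 1 := by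
      generalize (μ₁ + 1 + μ₃)⁻¹ * b = b'
      rw [add_mul, add_mul, β_addl, β_addl, hμ₁, hμ₃, β_inv _ hx0', β_inv _ hx1', one_mul, inv_inv,
        inv_inv, ← β_addr, ← β_addr, show x * a + a + (x + 1) * a = 0 by
          linear_combination ((x + 1) * a) * h.two0, hz0]
    rwa [mul_inv_cancel_left₀ hν] at key
  -- the preimage of the centre is central in `P`
  have hZP : ∀ w ∈ Z, ∀ y ∈ P, w * y = y * w := by
    rintro w ⟨b, hb⟩ y ⟨a, d, hy⟩
    have e1 : σ y = σ (L (a, 0) * L (0, d)) := by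
      rw [map_mul, hL, hL, hy, h.uS_mul, mul_zero, add_zero, add_zero, zero_add]
    have e2 : ⁅w, y⁆ = 1 := by
      rw [commutator_congr hk (a' := L (0, b)) (b' := L (a, 0) * L (0, d)) (hb.trans (hL (0, b)).symm) e1,
        commutator_mul_right hk (hcomC 0 b d)]
      have hd : ⁅L (0, b), L (0, d)⁆ = 1 := by
        -- the restriction of the pairing to the centre
        obtain ⟨a₁, a₂, hc⟩ := h.uS_zero_is_comm hm1 d
        have h1 : σ (L (0, d)) = σ (⁅L (a₁, 0), L (a₂, 0)⁆) := by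
          rw [map_commutatorElement, hL, hL, hL, hc]
        rw [commutator_congr hk rfl h1]
        have hc1 : ∀ a', Commute (L (0, b)) (L (a', 0)) := fun a' =>
          commutatorElement_eq_one_iff_commute.1 (β_triv b a')
        exact commutatorElement_eq_one_iff_commute.2 <| by
          rw [commutatorElement_def]
          exact (((hc1 a₁).mul_right (hc1 a₂)).mul_right (hc1 a₁).inv_right).mul_right
            (hc1 a₂).inv_right
      rw [hd, mul_one]
      exact β_triv b a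
    exact commutatorElement_eq_one_iff_mul_comm.1 e2
  have hZP' : Z ≤ P := by rintro w ⟨b, hb⟩; exact ⟨0, b, hb⟩
  -- a complement to the kernel in `Z`
  obtain ⟨μ₀, hμ0, hμ1⟩ := h.exists_ne01 hm1
  obtain ⟨l₀, hl₀⟩ := hmu μ₀
  have hl00 : l₀ ≠ 0 := fun e => hμ0 (by rw [← hl₀, e, mul_zero])
  obtain ⟨n₀, ⟨e₀, he₀⟩, hn₀⟩ := hlam l₀ hl00
  have hn₀Z : ∀ w ∈ Z, n₀ * w * n₀⁻¹ ∈ Z := by
    rintro w ⟨b, hb⟩
    exact ⟨sg m l₀ * l₀ * b, by rw [hn₀ 0 b w hb, mul_zero]⟩
  let δ : Z →* Γ :=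
    { toFun := fun w => n₀ * w.1 * n₀⁻¹ * w.1⁻¹
      map_one' := by simp
      map_mul' := fun v w => by
        show n₀ * (v.1 * w.1) * n₀⁻¹ * (v.1 * w.1)⁻¹ =
          n₀ * v.1 * n₀⁻¹ * v.1⁻¹ * (n₀ * w.1 * n₀⁻¹ * w.1⁻¹)
        have c1 := hZP _ v.2 _ (hZP' (mul_mem (hn₀Z _ w.2) (inv_mem w.2)))
        calc n₀ * (v.1 * w.1) * n₀⁻¹ * (v.1 * w.1)⁻¹
            = n₀ * v.1 * n₀⁻¹ * (n₀ * w.1 * n₀⁻¹ * w.1⁻¹) * v.1⁻¹ := by group
          _ = n₀ * v.1 * n₀⁻¹ * (v.1⁻¹ * (v.1 * (n₀ * w.1 * n₀⁻¹ * w.1⁻¹))) * v.1⁻¹ := by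
              rw [inv_mul_cancel_left]
          _ = _ := by rw [c1]; group }
  let D := δ.range
  have hδσ : ∀ w : Z, ∀ b, σ w.1 = uS h 0 b → σ (δ w) = uS h 0 ((μ₀ + 1) * b) := by
    intro w b hb
    show σ (n₀ * w.1 * n₀⁻¹ * w.1⁻¹) = _
    rw [map_mul, hn₀ 0 b w.1 hb, map_inv, hb, h.uS_inv, mul_zero, h.uS_mul, hl₀, sg_zero]
    congr 1 <;> ring
  have hDker : ∀ d ∈ D, σ d = 1 → d = 1 := by
    rintro _ ⟨w, rfl⟩ hd
    obtain ⟨b, hb⟩ := w.2
    rw [hδσ w b hb, ← h.uS_zero] at hd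
    have h2 := (h.uS_coords_inj hd).2
    have hne : μ₀ + 1 ≠ 0 := fun e => hμ1 (by linear_combination e - h.two0)
    have hb0 : b = 0 := (mul_eq_zero.1 h2).resolve_left hne
    show n₀ * w.1 * n₀⁻¹ * w.1⁻¹ = 1
    have hw : σ w.1 = 1 := by rw [hb, hb0, h.uS_zero]
    rw [hcent _ hw n₀, mul_inv_cancel_right, mul_inv_cancel]
  have hDex : ∀ b, ∃ d ∈ D, σ d = uS h 0 b := by
    intro b
    have hne : μ₀ + 1 ≠ 0 := fun e => hμ1 (by linear_combination e - h.two0)
    refine ⟨δ ⟨L (0, (μ₀ + 1)⁻¹ * b), ⟨_, hL _⟩⟩, ⟨_, rfl⟩, ?_⟩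
    rw [hδσ _ _ (hL _), mul_inv_cancel_left₀ hne]
  choose M hMD hMσ using hDex
  have hMuniq : ∀ b, ∀ d ∈ D, σ d = uS h 0 b → d = M b := by
    intro b d hd hs
    have := hDker (d * (M b)⁻¹) (mul_mem hd (inv_mem (hMD b))) (by rw [map_mul, map_inv, hs, hMσ, mul_inv_cancel])
    exact mul_inv_eq_one.1 this
  have hMadd : ∀ b b', M (b + b') = M b * M b' := fun b b' =>
    (hMuniq _ _ (mul_mem (hMD b) (hMD b')) (by
      rw [map_mul, hMσ, hMσ, h.uS_mul, sg_zero, zero_mul, add_zero, add_zero])).symm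
  -- invariance of the complement
  have hDconj : ∀ l : F, l ≠ 0 → ∃ n : Γ, (∀ a b : F, ∀ y : Γ, σ y = uS h a b →
      σ (n * y * n⁻¹) = uS h (l * a) (sg m l * l * b)) ∧ ∀ d ∈ D, n * d * n⁻¹ ∈ D := by
    intro l hl
    obtain ⟨n, ⟨e, he⟩, hn⟩ := hlam l hl
    refine ⟨n, hn, ?_⟩
    rintro _ ⟨w, rfl⟩
    obtain ⟨b, hb⟩ := w.2
    refine ⟨⟨n * w.1 * n⁻¹, ⟨sg m l * l * b, by rw [hn 0 b w.1 hb, mul_zero]⟩⟩, ?_⟩
    show n₀ * (n * w.1 * n⁻¹) * n₀⁻¹ * (n * w.1 * n⁻¹)⁻¹ = n * (n₀ * w.1 * n₀⁻¹ * w.1⁻¹) * n⁻¹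
    have hcen : (n * n₀)⁻¹ * (n₀ * n) ∈ Subgroup.center Γ :=
      hk (by rw [MonoidHom.mem_ker, map_mul, map_inv, map_mul, map_mul, he, he₀, ← map_mul (dS h),
        ← map_mul (dS h), mul_comm e₀ e, inv_mul_cancel])
    have e1 := Subgroup.mem_center_iff.1 hcen w.1
    have hnn : n₀ * (n * w.1 * n⁻¹) * n₀⁻¹ = n * (n₀ * w.1 * n₀⁻¹) * n⁻¹ := by
      calc n₀ * (n * w.1 * n⁻¹) * n₀⁻¹
          = (n * n₀) * ((n * n₀)⁻¹ * (n₀ * n) * w.1) * (n₀ * n)⁻¹ := by group
        _ = (n * n₀) * (w.1 * ((n * n₀)⁻¹ * (n₀ * n))) * (n₀ * n)⁻¹ := by rw [e1]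
        _ = _ := by group
    rw [hnn]; group
  -- the commutator pairing of the root group
  let γ : F → F → Γ := fun a a' => ⁅L (a, 0), L (a', 0)⁆ * (M (kap m a a'))⁻¹
  have hγker : ∀ a a', σ (γ a a') = 1 := fun a a' => by
    rw [map_mul, map_inv, map_commutatorElement, hL, hL, hMσ, h.commElem_uS, kap, mul_inv_cancel]
  have hLP : ∀ p, L p ∈ P := fun p => ⟨p.1, p.2, hL p⟩
  have hmulr : ∀ u ∈ P, ∀ v ∈ P, ∀ w ∈ P, ⁅u, v * w⁆ = ⁅u, v⁆ * ⁅u, w⁆ := by
    intro u hu v hv w hw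
    have hc := hZP _ (hcomP u hu w hw) v hv
    rw [commutatorElement_mul_right_eq_mul_conj, mul_assoc ⁅u, v⁆, ← hc, mul_assoc, mul_assoc,
      mul_inv_cancel, mul_one]
  have hZcomm : ∀ u ∈ P, ∀ w ∈ Z, ⁅u, w⁆ = 1 := fun u hu w hw =>
    commutatorElement_eq_one_iff_mul_comm.2 (hZP w hw u hu).symm
  have γ_addr : ∀ a a' a'', γ a (a' + a'') = γ a a' * γ a a'' := by
    intro a a' a''
    have e1 : σ (L (a' + a'', 0)) = σ (L (a', 0) * L (a'', 0) * L (0, sg m a' * a'')) := by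
      rw [map_mul, map_mul, hL, hL, hL, hL, h.uS_mul, h.uS_mul]
      congr 1
      · ring
      · rw [h.sg_add]
        linear_combination -(sg m a' * a'') * h.two0
    show ⁅L (a, 0), L (a' + a'', 0)⁆ * (M (kap m a (a' + a'')))⁻¹ = _
    rw [commutator_congr hk rfl e1, hmulr _ (hLP _) _ (mul_mem (hLP _) (hLP _)) _ (hLP _),
      hmulr _ (hLP _) _ (hLP _) _ (hLP _), hZcomm _ (hLP _) _ ⟨_, hL (0, sg m a' * a'')⟩, mul_one,
      kap_add h, hMadd, mul_inv_rev]
    have hc := hcent _ (hγker a a'') ((M (kap m a a'))⁻¹)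
    show _ = ⁅L (a, 0), L (a', 0)⁆ * (M (kap m a a'))⁻¹ * γ a a''
    rw [mul_assoc ⁅L (a, 0), L (a', 0)⁆ (M (kap m a a'))⁻¹ (γ a a''), hc]
    show _ = ⁅L (a, 0), L (a', 0)⁆ * (⁅L (a, 0), L (a'', 0)⁆ * (M (kap m a a''))⁻¹ * (M (kap m a a'))⁻¹)
    group
  have γ_swap : ∀ a a', γ a' a = (γ a a')⁻¹ := by
    intro a a'
    show ⁅L (a', 0), L (a, 0)⁆ * (M (kap m a' a))⁻¹ = (⁅L (a, 0), L (a', 0)⁆ * (M (kap m a a'))⁻¹)⁻¹
    have hkk : M (kap m a a') * M (kap m a a') = 1 := by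
      rw [← hMadd, h.add_self]
      exact (hMuniq 0 1 (one_mem D) (by rw [map_one, h.uS_zero])).symm
    have hc := hcent _ (hγker a a') (M (kap m a a'))
    simp only [γ] at hc
    rw [← commutatorElement_inv (L (a, 0)) (L (a', 0)), kap, add_comm, ← kap, mul_inv_rev, inv_inv,
      eq_comm, inv_eq_of_mul_eq_one_left hkk]
    have hcm : M (kap m a a') * ⁅L (a, 0), L (a', 0)⁆ = ⁅L (a, 0), L (a', 0)⁆ * M (kap m a a') := by
      rw [← mul_assoc] at hc
      rw [inv_eq_of_mul_eq_one_left hkk] at hc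
      have := congrArg (· * M (kap m a a')) hc
      simpa [mul_assoc, hkk] using this
    calc M (kap m a a') * ⁅L (a, 0), L (a', 0)⁆⁻¹
        = ⁅L (a, 0), L (a', 0)⁆⁻¹ * (⁅L (a, 0), L (a', 0)⁆ * M (kap m a a')) * ⁅L (a, 0), L (a', 0)⁆⁻¹ := by group
      _ = _ := by rw [← hcm]; group
  have γ_inv : ∀ l : F, l ≠ 0 → ∀ a a', γ (l * a) a' = γ a (l⁻¹ * a') := by
    intro l hl a a'
    obtain ⟨n, hn, hnD⟩ := hDconj l hl
    have key : ∀ p q, γ (l * p) (l * q) = γ p q := by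
      intro p q
      have e1 : n * M (kap m p q) * n⁻¹ = M (kap m (l * p) (l * q)) :=
        hMuniq _ _ (hnD _ (hMD _)) (by rw [hn 0 _ _ (hMσ _), mul_zero, kap_scale])
      have e2 : ⁅L (l * p, 0), L (l * q, 0)⁆ = n * ⁅L (p, 0), L (q, 0)⁆ * n⁻¹ := by
        rw [conjugate_commutatorElement, commutator_congr hk
          (show σ (L (l * p, 0)) = σ (n * L (p, 0) * n⁻¹) by rw [hn p 0 _ (hL _), hL, mul_zero])
          (show σ (L (l * q, 0)) = σ (n * L (q, 0) * n⁻¹) by rw [hn q 0 _ (hL _), hL, mul_zero])]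
      show ⁅L (l * p, 0), L (l * q, 0)⁆ * (M (kap m (l * p) (l * q)))⁻¹ = γ p q
      rw [← e1, e2, show n * ⁅L (p, 0), L (q, 0)⁆ * n⁻¹ * (n * M (kap m p q) * n⁻¹)⁻¹ = n * γ p q * n⁻¹ by
        simp only [γ]; group, hcent _ (hγker p q) n, mul_inv_cancel_right]
    rw [← key a (l⁻¹ * a'), mul_inv_cancel_left₀ hl]
  have γ_addl : ∀ a a' c, γ (a + a') c = γ a c * γ a' c := fun a a' c => by
    rw [γ_swap, γ_addr, γ_swap c a, γ_swap c a', ← mul_inv_rev]
    congr 1
    exact (hcent _ (hγker c a) _).symm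
  have γ_triv : ∀ a a', γ a a' = 1 := by
    intro a a'
    have hz0 : ∀ c, γ (0 : F) c = 1 := fun c => by
      have := γ_addl 0 0 c
      rw [add_zero] at this
      exact left_eq_mul.1 this
    have key : γ a ((x⁻¹ + 1 + (x + 1)⁻¹) * ((x⁻¹ + 1 + (x + 1)⁻¹)⁻¹ * a')) = 1 := by
      generalize (x⁻¹ + 1 + (x + 1)⁻¹)⁻¹ * a' = d'
      rw [add_mul, add_mul, one_mul, γ_addr, γ_addr, ← γ_inv (x + 1) hx1, ← γ_inv x hx0,
        ← γ_addl, ← γ_addl, show x * a + a + (x + 1) * a = 0 by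
          linear_combination ((x + 1) * a) * h.two0, hz0]
    rwa [mul_inv_cancel_left₀ hxl] at key
  -- so the derived group of `P` lies in the complement
  have hle : ⁅P, P⁆ ≤ D := by
    refine Subgroup.commutator_le.2 fun u hu v hv => ?_
    obtain ⟨a, b, hu'⟩ := hu
    obtain ⟨a', b', hv'⟩ := hv
    have hu2 : σ u = σ (L (a, 0) * L (0, b)) := by
      rw [hu', map_mul, hL, hL, h.uS_mul, mul_zero, add_zero, add_zero, zero_add]
    have hv2 : σ v = σ (L (a', 0) * L (0, b')) := by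
      rw [hv', map_mul, hL, hL, h.uS_mul, mul_zero, add_zero, add_zero, zero_add]
    have hZb : ∀ c, L (0, c) ∈ Z := fun c => ⟨c, hL _⟩
    rw [commutator_congr hk hu2 hv2, hmulr _ (mul_mem (hLP _) (hLP _)) _ (hLP _) _ (hLP _),
      hZcomm _ (mul_mem (hLP _) (hLP _)) _ (hZb b'), mul_one, ← commutatorElement_inv,
      hmulr _ (hLP _) _ (hLP _) _ (hLP _), hZcomm _ (hLP _) _ (hZb b), mul_one, commutatorElement_inv]
    rw [mul_inv_eq_one.1 (γ_triv a a')]
    exact hMD _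
  exact hDker z (hle hzc) hz

end Cfsg.Agent.Lib.SzMultiplier.Two
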